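import Mathlib

/-!
# Regular elements with flat quotient, and divisibility by their powers after base change
-/

set_option autoImplicit false

universe u

open TensorProduct

noncomputable section

namespace Groth.Agent.CartierExtLib

variable {R C : Type u} [CommRing R] [CommRing C] [Algebra R C]

theorem regular_tensor (R' : Type u) [CommRing R'] [Algebra R R'] {x : C} (hx : x ∈ nonZeroDivisors C)
    [Module.Flat R (C ⧸ Ideal.span {x})] : (1 : R') ⊗ₜ[R] x ∈ nonZeroDivisors (R' ⊗[R] C) := by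
  let g : C →ₗ[R] C := LinearMap.mulLeft R x
  let f : C →ₗ[R] C ⧸ Ideal.span {x} := (Ideal.Quotient.mkₐ R (Ideal.span {x})).toLinearMap
  have hg : Function.Injective g := fun a b hab => by
    have h : x * (a - b) = 0 := by rw [mul_sub]; exact sub_eq_zero.2 hab
    exact sub_eq_zero.1 ((mem_nonZeroDivisors_iff.1 hx).1 _ h)
  have H : Function.Exact g f := fun c => by
    show Ideal.Quotient.mk _ c = 0 ↔ _
    rw [Ideal.Quotient.eq_zero_iff_mem, Ideal.mem_span_singleton]
    exact ⟨fun ⟨d, hd⟩ => ⟨d, hd.symm⟩, fun ⟨d, hd⟩ => ⟨d, hd.symm⟩⟩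
  have hinj := LinearMap.lTensor_injective_of_exact_of_flat f Ideal.Quotient.mk_surjective g hg H R'
  have key : ∀ z : R' ⊗[R] C, g.lTensor R' z = (1 ⊗ₜ[R] x) * z := fun z => by
    induction z using TensorProduct.induction_on with
    | zero => simp
    | tmul a c => simp [g]
    | add a b ha hb => rw [map_add, mul_add, ha, hb]
  refine mem_nonZeroDivisors_iff.2 ⟨fun z hz => hinj ?_, fun z hz => hinj ?_⟩
  · rw [key, map_zero]; exact hz
  · rw [key, map_zero, mul_comm]; exact hz

theorem projective_quot_pow {x : C} (hx : x ∈ nonZeroDivisors C) [Module.Projective R (C ⧸ Ideal.span {x})] :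
    ∀ n : ℕ, Module.Projective R (C ⧸ Ideal.span {x ^ n})
  | 0 => by
    haveI : Subsingleton (C ⧸ Ideal.span {x ^ 0}) := Ideal.Quotient.subsingleton_iff.2 (by simp)
    infer_instance
  | n + 1 => by
    haveI := projective_quot_pow hx n
    let p : (C ⧸ Ideal.span {x ^ (n + 1)}) →ₗ[R] C ⧸ Ideal.span {x ^ n} :=
      (Ideal.Quotient.factorₐ R (by rw [Ideal.span_singleton_le_span_singleton]; exact pow_dvd_pow x n.le_succ)).toLinearMap
    let i : (C ⧸ Ideal.span {x}) →ₗ[R] C ⧸ Ideal.span {x ^ (n + 1)} :=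
      Submodule.liftQ ((Ideal.span {x}).restrictScalars R)
        ((Ideal.Quotient.mkₐ R (Ideal.span {x ^ (n + 1)})).toLinearMap.comp (LinearMap.mulLeft R (x ^ n))) fun c hc => by
          obtain ⟨d, rfl⟩ := Ideal.mem_span_singleton.1 hc
          show Ideal.Quotient.mk _ (x ^ n * (x * d)) = 0
          rw [Ideal.Quotient.eq_zero_iff_mem, Ideal.mem_span_singleton, pow_succ]
          exact ⟨d, (mul_assoc _ _ _).symm⟩
    have hi : Function.Injective i := by
      rw [injective_iff_map_eq_zero]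
      intro a ha
      obtain ⟨c, rfl⟩ := Ideal.Quotient.mk_surjective a
      have h1 : Ideal.Quotient.mk (Ideal.span {x ^ (n + 1)}) (x ^ n * c) = 0 := ha
      rw [Ideal.Quotient.eq_zero_iff_mem, Ideal.mem_span_singleton, pow_succ] at h1
      obtain ⟨d, hd⟩ := h1
      have h2 : x ^ n * (c - x * d) = 0 := by rw [mul_sub, hd]; ring
      rw [Ideal.Quotient.eq_zero_iff_mem, Ideal.mem_span_singleton]
      exact ⟨d, sub_eq_zero.1 ((mem_nonZeroDivisors_iff.1 (pow_mem hx n)).1 _ h2)⟩
    have hex : Function.Exact i p := fun a => by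
      obtain ⟨c, rfl⟩ := Ideal.Quotient.mk_surjective a
      show Ideal.Quotient.mk (Ideal.span {x ^ n}) c = 0 ↔ _
      rw [Ideal.Quotient.eq_zero_iff_mem, Ideal.mem_span_singleton]
      refine ⟨fun ⟨d, hd⟩ => ⟨Ideal.Quotient.mk _ d, ?_⟩, fun ⟨b, hb⟩ => ?_⟩
      · show Ideal.Quotient.mk _ (x ^ n * d) = _
        rw [← hd]
      · obtain ⟨d, rfl⟩ := Ideal.Quotient.mk_surjective b
        have h1 : Ideal.Quotient.mk (Ideal.span {x ^ (n + 1)}) (x ^ n * d) = Ideal.Quotient.mk _ c := hb
        rw [Ideal.Quotient.mk_eq_mk_iff_sub_mem, Ideal.mem_span_singleton] at h1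
        obtain ⟨e, he⟩ := h1
        exact ⟨d - x * e, by rw [mul_sub, ← mul_assoc, ← pow_succ, ← he]; ring⟩
    have hp : Function.Surjective p := fun a => by
      obtain ⟨c, rfl⟩ := Ideal.Quotient.mk_surjective a
      exact ⟨Ideal.Quotient.mk _ c, rfl⟩
    obtain ⟨l, hl⟩ := p.exists_rightInverse_of_surjective (LinearMap.range_eq_top.2 hp)
    exact Module.Projective.of_equiv (hex.splitSurjectiveEquiv hi ⟨l, hl⟩).1.symm

/-- The class of `β` dies in `R' ⊗ C/x^n` iff it becomes divisible by `x ^ n`. -/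
theorem tmul_quot_eq_zero_iff (R' : Type u) [CommRing R'] [Algebra R R'] (y β : C) :
    (1 : R') ⊗ₜ[R] (Ideal.Quotient.mk (Ideal.span {y}) β) = 0 ↔ (1 : R') ⊗ₜ[R] y ∣ (1 : R') ⊗ₜ[R] β := by
  let e := Algebra.TensorProduct.tensorQuotientEquiv (R := R) R' C R' (Ideal.span {y})
  have h1 : e ((1 : R') ⊗ₜ[R] Ideal.Quotient.mk (Ideal.span {y}) β) = Ideal.Quotient.mk _ ((1 : R') ⊗ₜ[R] β) :=
    Algebra.TensorProduct.tensorQuotientEquiv_apply_tmul _ _ _ _ _ _
  rw [← map_eq_zero_iff e e.injective, h1, Ideal.Quotient.eq_zero_iff_mem, Ideal.map_span, Set.image_singleton]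
  exact Ideal.mem_span_singleton

/-- An element of a localisation away from a regular element lies in the ring iff its numerator is divisible. -/
theorem exists_algebraMap_eq_iff {Cf : Type u} [CommRing Cf] [Algebra C Cf] {x : C} (hx : x ∈ nonZeroDivisors C)
    [IsLocalization.Away x Cf] (z : Cf) (β : C) (n : ℕ) (h : z * algebraMap C Cf x ^ n = algebraMap C Cf β) :
    (∃ c, algebraMap C Cf c = z) ↔ x ^ n ∣ β := by
  have hinj : Function.Injective (algebraMap C Cf) :=
    IsLocalization.injective Cf (Submonoid.powers_le.2 hx : Submonoid.powers x ≤ nonZeroDivisors C)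
  refine ⟨fun ⟨c, hc⟩ => ⟨c, hinj ?_⟩, fun ⟨c, hc⟩ => ⟨c, ?_⟩⟩
  · rw [map_mul, map_pow, hc, ← h, mul_comm]
  · have hu : IsUnit (algebraMap C Cf x ^ n) := (IsLocalization.Away.algebraMap_isUnit x).pow n
    refine hu.mul_left_injective ?_
    show algebraMap C Cf c * _ = z * _
    rw [h, hc, map_mul, map_pow, mul_comm]

end Groth.Agent.CartierExtLib
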