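import Groth.Agent.CartierExtLib.Ext
import Groth.Agent.ZeroLocusLib.Etale
import Groth.Agent.RichLib.FlatColimit

/-!
# Pieces on which the quotient by the equation is projective over the base
-/

set_option autoImplicit false
set_option maxHeartbeats 1000000

universe u

open CategoryTheory CategoryTheory.Limits AlgebraicGeometry TopologicalSpace Opposite TensorProduct
open Groth.Agent.ZeroLocusLib

noncomputable section

namespace Groth.Agent.CartierExtLib

theorem flatAt_of_flat {R B M : Type u} [CommRing R] [CommRing B] [Algebra R B] [AddCommGroup M] [Module B M]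
    [Module R M] [IsScalarTower R B M] [Module.Flat R M] (q : Ideal B) [q.IsPrime] : FlatCA.FlatAt R q M := by
  have h := (RichLib.FlatColimit.flat_iff_flatLocus_eq_univ (S := B)).1 (inferInstance : Module.Flat R M) ⟨q, inferInstance⟩
  exact h

/-- The quotient by an element after base change. -/
def tensorQuotAlg {R B C : Type u} [CommRing R] [CommRing B] [CommRing C] [Algebra B C] [Algebra R C] (f : B) :
    C ⊗[B] (B ⧸ Ideal.span {f}) ≃ₗ[R] C ⧸ (Ideal.span {algebraMap B C f} : Ideal C) :=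
  ((Algebra.TensorProduct.quotIdealMapEquivTensorQuot C (Ideal.span {f})).symm.toLinearEquiv ≪≫ₗ
    Submodule.quotEquivOfEq _ _ (by rw [Ideal.map_span, Set.image_singleton])).restrictScalars R

variable {Y S : Scheme.{u}} (q : Y ⟶ S) (I : Y.IdealSheafData)

theorem flat_quot [Flat (I.subschemeι ≫ q)] {U : S.Opens} (hU : IsAffineOpen U) {V : Y.Opens} (E : Eqn I V)
    (hVU : V ≤ q ⁻¹ᵁ U) :
    letI := (q.appLE U V hVU).hom.toAlgebra
    Module.Flat Γ(S, U) (Γ(Y, V) ⧸ Ideal.span {E.f}) := by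
  letI := (q.appLE U V hVU).hom.toAlgebra
  let ι := I.subschemeι
  have hW : IsAffineOpen (ι ⁻¹ᵁ V) := E.hV.preimage ι
  let g : Γ(Y, V) →+* Γ(I.subscheme, ι ⁻¹ᵁ V) := (ι.app V).hom
  letI : Algebra Γ(S, U) Γ(I.subscheme, ι ⁻¹ᵁ V) := (g.comp (q.appLE U V hVU).hom).toAlgebra
  haveI : Module.Flat Γ(S, U) Γ(I.subscheme, ι ⁻¹ᵁ V) := by
    have h := Scheme.Hom.flat_appLE (ι ≫ q) hU hW (show ι ⁻¹ᵁ V ≤ ι ⁻¹ᵁ (q ⁻¹ᵁ U) from ι.preimage_mono hVU)
    rw [show (ι ≫ q).appLE U (ι ⁻¹ᵁ V) _ = q.appLE U V hVU ≫ ι.app V by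
      rw [← Scheme.Hom.appLE_eq_app, Scheme.Hom.appLE_comp_appLE]] at h
    exact h
  let gA : Γ(Y, V) →ₐ[Γ(S, U)] Γ(I.subscheme, ι ⁻¹ᵁ V) := { g with commutes' := fun _ => rfl }
  have hker : RingHom.ker gA = Ideal.span {E.f} := (I.ker_subschemeι_app ⟨V, E.hV⟩).trans E.hI
  have hsurj : Function.Surjective gA := I.subschemeι_app_surjective ⟨V, E.hV⟩
  exact Module.Flat.of_linearEquiv ((Ideal.quotientEquivAlgOfEq Γ(S, U) hker.symm).trans
    (Ideal.quotientKerAlgEquivOfSurjective hsurj)).toLinearEquiv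

variable {q}

/-- The quotient by the equation is projective over the base. -/
def QProj {R : CommRingCat.{u}} {t : Spec R ⟶ S} (P : Piece q t) : Prop :=
  ∃ E : Eqn I P.V, Module.Projective R (P.C ⧸ (Ideal.span {P.φ E.f} : Ideal P.C))

theorem qproj_baseChange {R : CommRingCat.{u}} {t : Spec R ⟶ S} (P : Piece q t) (hP : QProj I P) (R' : Type u)
    [CommRing R'] [Algebra R R'] : QProj I (P.baseChange R') := by
  obtain ⟨E, hE⟩ := hP
  refine ⟨E, ?_⟩
  haveI := hE
  haveI : Module.Projective R' (R' ⊗[R] (P.C ⧸ (Ideal.span {P.φ E.f} : Ideal P.C))) := inferInstance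
  refine Module.Projective.of_equiv ((Algebra.TensorProduct.tensorQuotientEquiv (R := R) R' P.C R'
    (Ideal.span {P.φ E.f})).toLinearEquiv ≪≫ₗ (Submodule.quotEquivOfEq _ _ ?_).restrictScalars R')
  rw [Ideal.map_span, Set.image_singleton]
  rfl

theorem exists_along {R R' : Type u} [CommRing R] [CommRing R'] {t : Spec (CommRingCat.of R) ⟶ S}
    {t' : Spec (CommRingCat.of R') ⟶ S} (P : Piece q t) (h : R →+* R')
    (e : Spec.map (CommRingCat.ofHom h) ≫ t = t') (hP : QProj I P) :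
    ∃ P' : Piece q t', QProj I P' ∧
      ∀ z, bc q (Spec.map (CommRingCat.ofHom h)) e z ∈ Set.range P.χ → z ∈ Set.range P'.χ := by
  letI : Algebra R R' := h.toAlgebra
  subst e
  refine ⟨P.baseChange R', qproj_baseChange I P hP R', fun z ⟨c, hc⟩ => ?_⟩
  obtain ⟨z', -, hz'⟩ := Scheme.exists_preimage_of_isPullback (isPullback_pieceχ R' P) c z hc
  exact ⟨z', hz'⟩

variable {U : S.Opens} [IsProper q] [LocallyOfFinitePresentation q] [Flat (I.subschemeι ≫ q)]
  (hI : FGA.IsEffCartier I)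

include hI

/-- One point: an etale neighbourhood and a projective piece around the point. -/
theorem exists_piece_at (hU : IsAffineOpen U) (p : Ideal Γ(S, U)) [p.IsPrime]
    (y : ↥(pullback q (tBase hU p.ResidueField))) :
    ∃ (R : Type u) (_ : CommRing R) (_ : Algebra Γ(S, U) R) (_ : Algebra.Etale Γ(S, U) R)
      (g : R →ₐ[Γ(S, U)] p.ResidueField) (P : Piece q (tBase hU R)), QProj I P ∧
      (pullback.lift (pullback.fst q (tBase hU p.ResidueField))
        (pullback.snd q _ ≫ Spec.map (CommRingCat.ofHom (g : R →+* p.ResidueField)))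
        (by rw [Category.assoc, tBase_comp hU g]; exact pullback.condition) :
        pullback q (tBase hU p.ResidueField) ⟶ pullback q (tBase hU R)) y ∈ Set.range P.χ := by
  let K := p.ResidueField
  let tK := tBase hU K
  let y₀ := pullback.fst q tK y
  have hqy : q y₀ = hU.fromSpec ⟨p, inferInstance⟩ := by
    have h1 : q y₀ = tK (pullback.snd q tK y) := by
      show (pullback.fst q tK ≫ q) y = (pullback.snd q tK ≫ tK) y
      rw [pullback.condition]
    rw [h1]
    show hU.fromSpec ((Spec.map (CommRingCat.ofHom (algebraMap Γ(S, U) K))) _) = _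
    congr 1
    rw [@Subsingleton.elim (PrimeSpectrum K) _ (pullback.snd q tK y) ⊥]
    exact PrimeSpectrum.ext (Ideal.ker_algebraMap_residueField p)
  have hyU : y₀ ∈ q ⁻¹ᵁ U := by
    show q y₀ ∈ U
    rw [hqy]
    exact hU.range_fromSpec.le (Set.mem_range_self (⟨p, inferInstance⟩ : PrimeSpectrum Γ(S, U)))
  obtain ⟨V, ⟨E⟩, hyV, hVU⟩ := exists_eqn I hI y₀ (q ⁻¹ᵁ U) hyU
  have hV := E.hV
  let A := Γ(S, U)
  letI : Algebra A Γ(Y, V) := (q.appLE U V hVU).hom.toAlgebra
  haveI : Algebra.FinitePresentation A Γ(Y, V) := q.finitePresentation_appLE hU hV hVU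
  haveI : Module.FinitePresentation Γ(Y, V) (Γ(Y, V) ⧸ Ideal.span {E.f}) :=
    Module.finitePresentation_of_surjective (Submodule.mkQ (Ideal.span {E.f})) (Submodule.mkQ_surjective _)
      (by rw [Submodule.ker_mkQ]; exact Submodule.fg_span_singleton _)
  haveI hfl : Module.Flat A (Γ(Y, V) ⧸ Ideal.span {E.f}) := flat_quot q I hU E hVU
  let Q := (hV.primeIdealOf ⟨y₀, hyV⟩).asIdeal
  haveI : Q.LiesOver p := ⟨by
    have h1 : hU.fromSpec (Spec.map (q.appLE U V hVU) (hV.primeIdealOf ⟨y₀, hyV⟩)) = q y₀ := by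
      show (Spec.map (q.appLE U V hVU) ≫ hU.fromSpec) _ = _
      rw [hU.SpecMap_appLE_fromSpec q hV hVU]
      exact congrArg q (hV.fromSpec_primeIdealOf ⟨y₀, hyV⟩)
    exact (congrArg PrimeSpectrum.asIdeal (hU.fromSpec.isOpenEmbedding.injective (h1.trans hqy))).symm⟩
  have hQ : FlatCA.FlatAt A Q (Γ(Y, V) ⧸ Ideal.span {E.f}) := flatAt_of_flat Q
  obtain ⟨R, _, _, P, _, hnhd, hR⟩ := Groth.Agent.S1268.result (Γ(Y, V) ⧸ Ideal.span {E.f}) p Q hQ
  obtain ⟨het, hP, hbij⟩ := hnhd
  haveI := het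
  haveI := hP
  let e := RingEquiv.ofBijective (Ideal.ResidueField.mapₐ p P (Algebra.ofId A R) hP.over) hbij
  let g : R →ₐ[A] K :=
    { e.symm.toRingHom.comp (algebraMap R P.ResidueField) with
      commutes' := fun a => by
        show e.symm (algebraMap R P.ResidueField (algebraMap A R a)) = _
        rw [← IsScalarTower.algebraMap_apply, RingEquiv.symm_apply_eq]
        exact (AlgHom.commutes (Ideal.ResidueField.mapₐ p P (Algebra.ofId A R) hP.over) a).symm }
  have hker : RingHom.ker (g : R →+* K) = P := by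
    ext r
    show e.symm (algebraMap R P.ResidueField r) = 0 ↔ _
    rw [map_eq_zero_iff _ e.symm.injective]
    exact Ideal.algebraMap_residueField_eq_zero
  let P₀ := (chart q hU hV hVU).baseChange R
  letI : Algebra Γ(Y, V) (R ⊗[A] Γ(Y, V)) := Algebra.TensorProduct.rightAlgebra
  obtain ⟨C, _, hSC, _, hsc, x, _, hopen, hxQ, hxP, hproj⟩ := hR (R ⊗[A] Γ(Y, V))
    ((R ⊗[A] Γ(Y, V)) ⊗[Γ(Y, V)] (Γ(Y, V) ⧸ Ideal.span {E.f})) (TensorProduct.mk Γ(Y, V) (R ⊗[A] Γ(Y, V)) (Γ(Y, V) ⧸ Ideal.span {E.f}) 1)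
    (TensorProduct.isBaseChange _ _ _)
  letI : Algebra Γ(Y, V) C :=
    ((algebraMap (R ⊗[A] Γ(Y, V)) C).comp (algebraMap Γ(Y, V) (R ⊗[A] Γ(Y, V)))).toAlgebra
  let P₁ : Piece q (tBase hU R) :=
    letI : Algebra P₀.C C := hSC
    haveI : IsScalarTower R P₀.C C := hsc
    P₀.restrict C hopen
  refine ⟨R, inferInstance, inferInstance, het, g, P₁, ?_, ?_⟩
  · haveI : IsScalarTower Γ(Y, V) (R ⊗[A] Γ(Y, V)) C := IsScalarTower.of_algebraMap_eq fun _ => rfl
    let e' := (TensorProduct.AlgebraTensorModule.cancelBaseChange Γ(Y, V) (R ⊗[A] Γ(Y, V)) C C (Γ(Y, V) ⧸ Ideal.span {E.f})).restrictScalars R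
    haveI : Module.Projective R (C ⊗[R ⊗[A] Γ(Y, V)] ((R ⊗[A] Γ(Y, V)) ⊗[Γ(Y, V)] (Γ(Y, V) ⧸ Ideal.span {E.f})))   :=
      haveI := hproj
      Module.Projective.of_equiv
        ({ RestrictScalars.addEquiv R C _ with
            map_smul' := fun r z => algebraMap_smul C r (RestrictScalars.addEquiv R C _ z) } :
          RestrictScalars R C (C ⊗[R ⊗[A] Γ(Y, V)] ((R ⊗[A] Γ(Y, V)) ⊗[Γ(Y, V)] (Γ(Y, V) ⧸ Ideal.span {E.f}))) ≃ₗ[R] _)
    refine ⟨E, ?_⟩
    haveI := Module.Projective.of_equiv e'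
    exact Module.Projective.of_equiv (tensorQuotAlg (R := R) (C := C) E.f)
  · let c : Spec (CommRingCat.of C) := (⟨x, inferInstance⟩ : PrimeSpectrum C)
    let m : pullback q tK ⟶ pullback q (tBase hU R) := pullback.lift (pullback.fst q tK)
      (pullback.snd q tK ≫ Spec.map (CommRingCat.ofHom (g : R →+* K)))
      (by rw [Category.assoc, tBase_comp hU g]; exact pullback.condition)
    let w := P₁.χ (show Spec (CommRingCat.of P₁.C) from c)
    have hw₁ : pullback.fst q (tBase hU R) w = y₀ := by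
      show (P₁.χ ≫ pullback.fst q (tBase hU R)) c = _
      rw [P₁.hfst]
      show hV.fromSpec (Spec.map (CommRingCat.ofHom P₁.φ) c) = _
      refine (congrArg hV.fromSpec (?_ : _ = hV.primeIdealOf ⟨y₀, hyV⟩)).trans (hV.fromSpec_primeIdealOf ⟨y₀, hyV⟩)
      exact PrimeSpectrum.ext hxQ.over.symm
    have hw₂ : pullback.snd q (tBase hU R) w = (⟨P, inferInstance⟩ : PrimeSpectrum R) := by
      show (P₁.χ ≫ pullback.snd q (tBase hU R)) c = _
      rw [P₁.hsnd]
      refine PrimeSpectrum.ext ?_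
      show Ideal.comap (algebraMap R C) x = P
      rw [IsScalarTower.algebraMap_eq R (R ⊗[A] Γ(Y, V)) C, ← Ideal.comap_comap]
      exact hxP.over.symm
    let k : Spec (CommRingCat.of K) := (⟨⊥, Ideal.bot_prime⟩ : PrimeSpectrum K)
    have hk : Spec.map (CommRingCat.ofHom (g : R →+* K)) k = pullback.snd q (tBase hU R) w := by
      rw [hw₂]
      exact PrimeSpectrum.ext hker
    obtain ⟨y', hy', -⟩ := Scheme.exists_preimage_of_isPullback
      (isPullback_lift q _ (tBase_comp hU g)) w k hk.symm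
    haveI : IsPreimmersion (Spec.map (CommRingCat.ofHom (algebraMap Γ(S, U) K))) := isPreimmersion_residueField p
    haveI : IsPreimmersion tK := inferInstanceAs (IsPreimmersion (Spec.map _ ≫ hU.fromSpec))
    haveI : IsPreimmersion (pullback.fst q tK) := MorphismProperty.pullback_fst _ _ inferInstance
    have hyy : y' = y := (pullback.fst q tK).isEmbedding.injective (by
      show _ = y₀
      rw [← hw₁, ← hy']
      show _ = (m ≫ pullback.fst q (tBase hU R)) y'
      rw [pullback.lift_fst])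
    exact ⟨c, (hy'.symm.trans (congrArg m hyy))⟩

/-- Projective pieces covering the base change to an etale algebra around a prime. -/
theorem exists_pieces (hU : IsAffineOpen U) (p : Ideal Γ(S, U)) [p.IsPrime] :
    ∃ (R : Type u) (_ : CommRing R) (_ : Algebra Γ(S, U) R), Algebra.Etale Γ(S, U) R ∧
      (∃ P : Ideal R, P.IsPrime ∧ P.comap (algebraMap Γ(S, U) R) = p) ∧
      ∃ (ι : Type u) (Pc : ι → Piece q (tBase hU R)), (∀ i, QProj I (Pc i)) ∧
        ∀ z : ↥(pullback q (tBase hU R)), ∃ i, z ∈ Set.range (Pc i).χ := by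
  classical
  let K := p.ResidueField
  let tK := tBase hU K
  choose Ry _ _ _ gy Py hproj hmem using exists_piece_at (q := q) I hI hU p
  haveI : CompactSpace ↥(pullback q tK) := QuasiCompact.compactSpace_of_compactSpace (pullback.snd q tK)
  let O : ↥(pullback q tK) → Set ↥(pullback q tK) := fun y =>
    (bc q (Spec.map (CommRingCat.ofHom (gy y : Ry y →+* K))) (tBase_comp hU (gy y))) ⁻¹' Set.range (Py y).χ
  obtain ⟨s, hs⟩ := isCompact_univ.elim_finite_subcover O
    (fun y => ((Py y).χ.isOpenEmbedding.isOpen_range).preimage (Scheme.Hom.continuous _))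
    fun y _ => Set.mem_iUnion.2 ⟨y, hmem y⟩
  let y' : Fin s.card → ↥(pullback q tK) := fun i => (s.equivFin.symm i).1
  obtain ⟨R, _, _, _, h, gR, hg⟩ :=
    exists_common K s.card (fun i => CommRingCat.of (Ry (y' i))) fun i => gy (y' i)
  choose Pc hPc hPcz using fun i =>
    exists_along I (Py (y' i)) (h i : Ry (y' i) →+* R) (tBase_comp hU (h i)) (hproj (y' i))
  let k : Spec (CommRingCat.of R) :=
    Spec.map (CommRingCat.ofHom (gR : R →+* K)) (⟨⊥, Ideal.bot_prime⟩ : PrimeSpectrum K)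
  have hcovk : ∀ z : ↥(pullback q (tBase hU R)), pullback.snd q _ z = k → ∃ i, z ∈ Set.range (Pc i).χ := by
    intro z hz
    obtain ⟨y, hy, -⟩ := Scheme.exists_preimage_of_isPullback
      (isPullback_lift q _ (tBase_comp hU gR)) z (⟨⊥, Ideal.bot_prime⟩ : PrimeSpectrum K) hz
    obtain ⟨y₁, hy₁, hy₁O⟩ := Set.mem_iUnion₂.1 (hs (Set.mem_univ y))
    have hyi : y' (s.equivFin ⟨y₁, hy₁⟩) = y₁ := by simp [y']
    generalize s.equivFin ⟨y₁, hy₁⟩ = i at hyi
    subst hyi
    refine ⟨i, hPcz i z ?_⟩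
    rw [← hy]
    have e : bc q (Spec.map (CommRingCat.ofHom (gR : R →+* K))) (tBase_comp hU gR) ≫
        bc q (Spec.map (CommRingCat.ofHom (h i : Ry (y' i) →+* R))) (tBase_comp hU (h i)) =
        bc q (Spec.map (CommRingCat.ofHom (gy (y' i) : Ry (y' i) →+* K))) (tBase_comp hU (gy (y' i))) := by
      apply pullback.hom_ext
      · rw [Category.assoc, pullback.lift_fst, pullback.lift_fst, pullback.lift_fst]
      · rw [Category.assoc, pullback.lift_snd, pullback.lift_snd_assoc, pullback.lift_snd, Category.assoc,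
          ← Spec.map_comp, ← CommRingCat.ofHom_comp, ← hg i]
        rfl
    rw [← Scheme.Hom.comp_apply, e]
    exact hy₁O
  let W : Set ↥(pullback q (tBase hU R)) := ⋃ i, Set.range (Pc i).χ
  have hW : IsOpen W := isOpen_iUnion fun i => (Pc i).χ.isOpenEmbedding.isOpen_range
  have hcl : IsClosed ((pullback.snd q (tBase hU R)) '' Wᶜ) :=
    (pullback.snd q (tBase hU R)).isClosedMap _ hW.isClosed_compl
  have hk : k ∉ (pullback.snd q (tBase hU R)) '' Wᶜ := fun ⟨z, hzW, hz⟩ =>
    hzW (Set.mem_iUnion.2 (hcovk z hz))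
  obtain ⟨_, ⟨r, rfl⟩, hkr, hr⟩ :=
    PrimeSpectrum.isTopologicalBasis_basic_opens.exists_subset_of_mem_open hk hcl.isOpen_compl
  let L := Localization.Away r
  haveI : Algebra.Etale R L := Algebra.Etale.of_isLocalizationAway r
  haveI : Algebra.Etale Γ(S, U) L := Algebra.Etale.comp Γ(S, U) R L
  let l : R →ₐ[Γ(S, U)] L := IsScalarTower.toAlgHom _ _ _
  choose Pd hPd hPdz using fun i => exists_along I (Pc i) (l : R →+* L) (tBase_comp hU l) (hPc i)
  obtain ⟨P, hP⟩ : k ∈ Set.range (PrimeSpectrum.comap (algebraMap R L)) := by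
    rw [PrimeSpectrum.localization_away_comap_range L r]
    exact hkr
  refine ⟨L, inferInstance, inferInstance, inferInstance, ⟨P.asIdeal, P.2, ?_⟩, ULift.{u} (Fin s.card),
    fun i => Pd i.down, fun i => hPd i.down, fun z => ?_⟩
  · rw [IsScalarTower.algebraMap_eq Γ(S, U) R L, ← Ideal.comap_comap,
      show P.asIdeal.comap (algebraMap R L) = k.asIdeal from congrArg PrimeSpectrum.asIdeal hP]
    show Ideal.comap (algebraMap Γ(S, U) R) (Ideal.comap (gR : R →+* K) ⊥) = p
    rw [Ideal.comap_comap, AlgHom.comp_algebraMap]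
    exact Ideal.ker_algebraMap_residueField p
  · have hzr : bc q (Spec.map (CommRingCat.ofHom (l : R →+* L))) (tBase_comp hU l) z ∈ W := by
      by_contra hzW
      refine hr ?_ ⟨_, hzW, rfl⟩
      show (bc q (Spec.map (CommRingCat.ofHom (l : R →+* L))) (tBase_comp hU l) ≫ pullback.snd q (tBase hU R)) z ∈ _
      rw [pullback.lift_snd]
      show _ ∈ (PrimeSpectrum.basicOpen r : Set (PrimeSpectrum R))
      rw [← PrimeSpectrum.localization_away_comap_range L r]
      exact ⟨pullback.snd q (tBase hU L) z, rfl⟩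
    obtain ⟨i, hi⟩ := Set.mem_iUnion.1 hzr
    exact ⟨⟨i⟩, hPdz i z hi⟩

end Groth.Agent.CartierExtLib
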