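import Groth.Agent.CartierExtLib.Alg
import Groth.Prelude.Def_FGA
import Mathlib

/-!
# Extending a section of an affine morphism across an effective Cartier divisor
-/

set_option autoImplicit false
set_option maxHeartbeats 1000000

universe u

open CategoryTheory CategoryTheory.Limits AlgebraicGeometry TopologicalSpace Opposite TensorProduct

noncomputable section

namespace Groth.Agent.CartierExtLib

variable {P Y : Scheme.{u}} (p : Y ⟶ P) {Q : P.Opens} (s : (Q : Scheme.{u}) ⟶ Y)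

/-- `m` is a section of `p` over `h` extending `s`. -/
def IsExt {Z : Scheme.{u}} (h : Z ⟶ P) (m : Z ⟶ Y) : Prop :=
  m ≫ p = h ∧ ∀ (Z' : Scheme.{u}) (j : Z' ⟶ Z) (j' : Z' ⟶ Q), j ≫ h = j' ≫ Q.ι → j ≫ m = j' ≫ s

variable {p s}

theorem IsExt.comp {Z Z' : Scheme.{u}} {h : Z ⟶ P} {m : Z ⟶ Y} (hm : IsExt p s h m) (g : Z' ⟶ Z) :
    IsExt p s (g ≫ h) (g ≫ m) :=
  ⟨by rw [Category.assoc, hm.1], fun Z'' j j' e => by
    rw [← Category.assoc, hm.2 Z'' (j ≫ g) j' (by rw [Category.assoc]; exact e)]⟩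

variable (I : P.IdealSheafData)

/-- The affine opens on which the divisor has a regular equation. -/
structure Eqn (V : P.Opens) where
  hV : IsAffineOpen V
  f : Γ(P, V)
  hf : f ∈ nonZeroDivisors Γ(P, V)
  hI : I.ideal ⟨V, hV⟩ = Ideal.span {f}

theorem exists_eqn (hI : FGA.IsEffCartier I) (y : P) (O : P.Opens) (hy : y ∈ O) :
    ∃ V : P.Opens, Nonempty (Eqn I V) ∧ y ∈ V ∧ V ≤ O := by
  obtain ⟨U, hyU, a, ha, hIa⟩ := hI y
  obtain ⟨g, hgO, hyg⟩ := U.2.exists_basicOpen_le (V := O) ⟨y, hy⟩ hyU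
  haveI := U.2.isLocalization_basicOpen g
  refine ⟨P.basicOpen g, ⟨⟨U.2.basicOpen g, P.presheaf.map (homOfLE (P.basicOpen_le g)).op a, ?_, ?_⟩⟩, hyg, hgO⟩
  · exact IsLocalization.map_nonZeroDivisors_le (Submonoid.powers g) Γ(P, P.basicOpen g) ⟨a, ha, rfl⟩
  · have := I.map_ideal_basicOpen U g
    rw [hIa, Ideal.map_span, Set.image_singleton] at this
    exact this.symm

/-- Every neighbourhood contains an affine piece on which the equation stays regular. -/
def Dense {Z : Scheme.{u}} (h : Z ⟶ P) : Prop :=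
  ∀ (z : Z) (O : Z.Opens), z ∈ O → ∃ (C : CommRingCat.{u}) (V : P.Opens) (E : Eqn I V) (φ : Γ(P, V) →+* C)
    (j : Spec C ⟶ Z), IsOpenImmersion j ∧ z ∈ Set.range j ∧ Set.range j ⊆ (O : Set Z) ∧
      j ≫ h = Spec.map (CommRingCat.ofHom φ) ≫ E.hV.fromSpec ∧ φ E.f ∈ nonZeroDivisors C

theorem Dense.comp {I} {Z Z' : Scheme.{u}} {h : Z ⟶ P} (hd : Dense I h) (g : Z' ⟶ Z) [IsOpenImmersion g] :
    Dense I (g ≫ h) := by
  intro z O hz
  obtain ⟨C, V, E, φ, j, hj, hzj, hjO, hjh, hφ⟩ := hd (g z) (g ''ᵁ O) ⟨z, hz, rfl⟩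
  haveI := hj
  have hrange : Set.range j ⊆ Set.range g := fun x hx => by
    obtain ⟨w, -, rfl⟩ := hjO hx
    exact ⟨w, rfl⟩
  have hfac := IsOpenImmersion.lift_fac g j hrange
  haveI : IsOpenImmersion (IsOpenImmersion.lift g j hrange ≫ g) := by rw [hfac]; exact hj
  refine ⟨C, V, E, φ, IsOpenImmersion.lift g j hrange, IsOpenImmersion.of_comp _ g, ?_, ?_,
    by rw [← Category.assoc, hfac, hjh], hφ⟩
  · obtain ⟨c, hc⟩ := hzj
    exact ⟨c, g.isOpenEmbedding.injective (by rw [← Scheme.Hom.comp_apply, hfac]; exact hc)⟩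
  · rintro _ ⟨c, rfl⟩
    obtain ⟨w, hw, hwc⟩ := hjO ⟨c, rfl⟩
    rw [← hfac, Scheme.Hom.comp_apply] at hwc
    exact g.isOpenEmbedding.injective hwc ▸ hw

theorem mem_Q_iff (hQ : Q = I.support.compl) {V : P.Opens} (E : Eqn I V) {x : P} (hx : x ∈ V) :
    x ∈ Q ↔ x ∈ P.basicOpen E.f := by
  subst hQ
  show ¬ x ∈ I.support ↔ _
  rw [I.mem_support_iff_of_mem (U := ⟨V, E.hV⟩) hx, E.hI, Scheme.zeroLocus_span, Scheme.zeroLocus_singleton,
    Set.mem_compl_iff, not_not]
  rfl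

variable (p s)

/-- The affine criterion and uniqueness. -/
theorem affine_ext [IsAffineHom p] [LocallyOfFinitePresentation p] (hQ : Q = I.support.compl) (hs : s ≫ p = Q.ι)
    {V : P.Opens} (E : Eqn I V) :
    ∃ X : Set (ℕ × Γ(P, V)), ∀ (C : Type u) [CommRing C] (φ : Γ(P, V) →+* C), φ E.f ∈ nonZeroDivisors C →
      ((∃ m, IsExt p s (Spec.map (CommRingCat.ofHom φ) ≫ E.hV.fromSpec) m) ↔
          ∀ x ∈ X, φ E.f ^ x.1 ∣ φ x.2) ∧
      ∀ m m', IsExt p s (Spec.map (CommRingCat.ofHom φ) ≫ E.hV.fromSpec) m →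
        IsExt p s (Spec.map (CommRingCat.ofHom φ) ≫ E.hV.fromSpec) m' → m = m' := by
  classical
  let B := Γ(P, V)
  let W := p ⁻¹ᵁ V
  have hW : IsAffineOpen W := E.hV.preimage p
  let CV := Γ(Y, W)
  let pV : B →+* CV := (p.appLE V W le_rfl).hom
  have hpV : Spec.map (CommRingCat.ofHom pV) ≫ E.hV.fromSpec = hW.fromSpec ≫ p :=
    E.hV.SpecMap_appLE_fromSpec p hW le_rfl
  let Bf := Localization.Away E.f
  let loc := Spec.map (CommRingCat.ofHom (algebraMap B Bf)) ≫ E.hV.fromSpec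
  have hlocQ : Set.range loc ⊆ Set.range Q.ι := by
    rintro _ ⟨z, rfl⟩
    rw [Scheme.Opens.range_ι]
    have hzV : loc z ∈ V := E.hV.range_fromSpec.le (Set.mem_range_self _)
    refine (mem_Q_iff I hQ E hzV).2 ?_
    show Spec.map (CommRingCat.ofHom (algebraMap B Bf)) z ∈ E.hV.fromSpec ⁻¹ᵁ P.basicOpen E.f
    rw [E.hV.fromSpec_preimage_basicOpen]
    exact (PrimeSpectrum.localization_away_comap_range Bf E.f).le ⟨z, rfl⟩
  let qV := IsOpenImmersion.lift Q.ι loc hlocQ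
  have hqV : qV ≫ Q.ι = loc := IsOpenImmersion.lift_fac _ _ _
  let sV := qV ≫ s
  have hsV : sV ≫ p = loc := by rw [Category.assoc, hs, hqV]
  have hliftW : ∀ {Z : Scheme.{u}} (m : Z ⟶ Y), Set.range (m ≫ p) ⊆ (V : Set P) →
      Set.range m ⊆ Set.range hW.fromSpec := fun m hm => by
    rintro _ ⟨z, rfl⟩
    exact hW.range_fromSpec.ge (show p (m z) ∈ V from hm ⟨z, rfl⟩)
  have hrV : ∀ {C : Type u} [CommRing C] (φ : B →+* C),
      Set.range (Spec.map (CommRingCat.ofHom φ) ≫ E.hV.fromSpec) ⊆ (V : Set P) := fun φ => by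
    rintro _ ⟨z, rfl⟩
    exact E.hV.range_fromSpec.le (Set.mem_range_self _)
  have hfac : ∀ {C : Type u} [CommRing C] (φ : B →+* C) (m : Spec (CommRingCat.of C) ⟶ Y),
      m ≫ p = Spec.map (CommRingCat.ofHom φ) ≫ E.hV.fromSpec →
      ∃ θ : CV →+* C, θ.comp pV = φ ∧ Spec.map (CommRingCat.ofHom θ) ≫ hW.fromSpec = m := by
    intro C _ φ m hm
    let θ := (Spec.preimage (IsOpenImmersion.lift hW.fromSpec m (hliftW m (by rw [hm]; exact hrV φ)))).hom
    have h1 : Spec.map (CommRingCat.ofHom θ) ≫ hW.fromSpec = m := by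
      rw [CommRingCat.ofHom_hom, Spec.map_preimage, IsOpenImmersion.lift_fac]
    refine ⟨θ, ?_, h1⟩
    rw [← h1, Category.assoc, ← hpV, ← Category.assoc, cancel_mono, ← Spec.map_comp, ← CommRingCat.ofHom_comp] at hm
    exact congrArg CommRingCat.Hom.hom (Spec.map_injective hm)
  obtain ⟨ψ, hψp, hψ⟩ := hfac (algebraMap B Bf) sV hsV
  letI : Algebra B CV := pV.toAlgebra
  haveI : Algebra.FinitePresentation B CV := p.finitePresentation_appLE E.hV hW le_rfl
  obtain ⟨gens, hgens⟩ := (inferInstance : Algebra.FiniteType B CV).out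
  choose n β hβ using fun c : CV => IsLocalization.Away.surj E.f (ψ c)
  refine ⟨(fun c => (n c, β c)) '' (gens : Set CV), fun C _ φ hφ => ?_⟩
  let Cf := Localization.Away (φ E.f)
  have hinj : Function.Injective (algebraMap C Cf) :=
    IsLocalization.injective Cf (Submonoid.powers_le.2 hφ : Submonoid.powers (φ E.f) ≤ nonZeroDivisors C)
  let φf : Bf →+* Cf := IsLocalization.Away.map Bf Cf φ E.f
  have hφf : φf.comp (algebraMap B Bf) = (algebraMap C Cf).comp φ := IsLocalization.map_comp _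
  let jC := Spec.map (CommRingCat.ofHom (algebraMap C Cf))
  let jQ := Spec.map (CommRingCat.ofHom φf) ≫ qV
  have hjQ : jC ≫ Spec.map (CommRingCat.ofHom φ) ≫ E.hV.fromSpec = jQ ≫ Q.ι := by
    rw [Category.assoc, hqV, ← Spec.map_comp_assoc, ← Spec.map_comp_assoc, ← CommRingCat.ofHom_comp,
      ← CommRingCat.ofHom_comp, hφf]
  have hext : ∀ m, IsExt p s (Spec.map (CommRingCat.ofHom φ) ≫ E.hV.fromSpec) m →
      ∃ θ : CV →+* C, θ.comp pV = φ ∧ Spec.map (CommRingCat.ofHom θ) ≫ hW.fromSpec = m ∧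
        (algebraMap C Cf).comp θ = φf.comp ψ := by
    intro m hm
    obtain ⟨θ, hθp, hθ⟩ := hfac φ m hm.1
    refine ⟨θ, hθp, hθ, ?_⟩
    have h1 := hm.2 _ jC jQ hjQ
    rw [← hθ, Category.assoc, show qV ≫ s = sV from rfl, ← hψ, ← Category.assoc, ← Category.assoc, cancel_mono,
      ← Spec.map_comp, ← Spec.map_comp, ← CommRingCat.ofHom_comp, ← CommRingCat.ofHom_comp] at h1
    exact congrArg CommRingCat.Hom.hom (Spec.map_injective h1)
  have hdiv : ∀ c : CV, (∃ d, algebraMap C Cf d = φf (ψ c)) ↔ φ E.f ^ n c ∣ φ (β c) := fun c => by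
    have e := congrArg φf (hβ c)
    rw [map_mul, map_pow, show φf (algebraMap B Bf E.f) = algebraMap C Cf (φ E.f) from RingHom.congr_fun hφf _,
      show φf (algebraMap B Bf (β c)) = algebraMap C Cf (φ (β c)) from RingHom.congr_fun hφf _] at e
    exact exists_algebraMap_eq_iff hφ _ _ _ e
  refine ⟨⟨?_, fun h => ?_⟩, fun m m' hm hm' => ?_⟩
  · rintro ⟨m, hm⟩ _ ⟨c, -, rfl⟩
    obtain ⟨θ, -, -, hθ⟩ := hext m hm
    exact (hdiv c).1 ⟨θ c, RingHom.congr_fun hθ c⟩
  · have hpsi : ∀ b, φf (ψ (pV b)) = algebraMap C Cf (φ b) := fun b => by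
      rw [show ψ (pV b) = algebraMap B Bf b from RingHom.congr_fun hψp b]
      exact RingHom.congr_fun hφf b
    have hall : ∀ c : CV, φf (ψ c) ∈ (algebraMap C Cf).range := fun c => by
      have hc : c ∈ Algebra.adjoin B (gens : Set CV) := by rw [hgens]; trivial
      induction hc using Algebra.adjoin_induction with
      | mem x hx => exact RingHom.mem_range.2 ((hdiv x).2 (h _ ⟨x, hx, rfl⟩))
      | algebraMap b => exact RingHom.mem_range.2 ⟨φ b, (hpsi b).symm⟩
      | add a b _ _ ha hb => rw [map_add, map_add]; exact add_mem ha hb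
      | mul a b _ _ ha hb => rw [map_mul, map_mul]; exact mul_mem ha hb
    let eC : C ≃+* (algebraMap C Cf).range := RingEquiv.ofBijective (algebraMap C Cf).rangeRestrict
      ⟨fun a b hab => hinj (congrArg Subtype.val hab), (algebraMap C Cf).rangeRestrict_surjective⟩
    let θ : CV →+* C := eC.symm.toRingHom.comp ((φf.comp ψ).codRestrict (algebraMap C Cf).range hall)
    have hθ : ∀ c, algebraMap C Cf (θ c) = φf (ψ c) := fun c =>
      congrArg Subtype.val (eC.apply_symm_apply ((φf.comp ψ).codRestrict (algebraMap C Cf).range hall c))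
    have hθp : θ.comp pV = φ := RingHom.ext fun b => hinj ((hθ (pV b)).trans (hpsi b))
    have hmp : (Spec.map (CommRingCat.ofHom θ) ≫ hW.fromSpec) ≫ p =
        Spec.map (CommRingCat.ofHom φ) ≫ E.hV.fromSpec := by
      rw [Category.assoc, ← hpV, ← Spec.map_comp_assoc, ← CommRingCat.ofHom_comp, hθp]
    refine ⟨_, hmp, fun Z' j j' e => ?_⟩
    have hj : Set.range j ⊆ Set.range jC := by
      rintro _ ⟨z, rfl⟩
      have hQz : E.hV.fromSpec (Spec.map (CommRingCat.ofHom φ) (j z)) ∈ Q := by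
        show (j ≫ Spec.map (CommRingCat.ofHom φ) ≫ E.hV.fromSpec) z ∈ Q
        rw [e]
        exact Q.range_ι.le (Set.mem_range_self (j' z))
      have hVz : E.hV.fromSpec (Spec.map (CommRingCat.ofHom φ) (j z)) ∈ V :=
        E.hV.range_fromSpec.le (Set.mem_range_self _)
      have hD := (mem_Q_iff I hQ E hVz).1 hQz
      change Spec.map (CommRingCat.ofHom φ) (j z) ∈ E.hV.fromSpec ⁻¹ᵁ P.basicOpen E.f at hD
      rw [E.hV.fromSpec_preimage_basicOpen] at hD
      exact (PrimeSpectrum.localization_away_comap_range Cf (φ E.f)).ge hD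
    haveI : IsOpenImmersion jC := IsOpenImmersion.of_isLocalization (φ E.f)
    let j₁ := IsOpenImmersion.lift jC j hj
    have hj₁ : j₁ ≫ jC = j := IsOpenImmersion.lift_fac _ _ _
    have hj' : j' = j₁ ≫ jQ := by
      rw [← cancel_mono Q.ι, Category.assoc, ← hjQ, ← e, reassoc_of% hj₁]
    rw [← hj₁, hj', Category.assoc, Category.assoc]
    congr 1
    rw [Category.assoc, show qV ≫ s = sV from rfl, ← hψ, ← Spec.map_comp_assoc, ← Spec.map_comp_assoc,
      ← CommRingCat.ofHom_comp, ← CommRingCat.ofHom_comp]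
    congr 2
    exact congrArg CommRingCat.ofHom (RingHom.ext hθ)
  · obtain ⟨θ, -, rfl, h1⟩ := hext m hm
    obtain ⟨θ', -, rfl, h2⟩ := hext m' hm'
    have : θ = θ' := RingHom.ext fun c => hinj (RingHom.congr_fun (h1.trans h2.symm) c)
    rw [this]

variable {I} {p s}

theorem IsExt.unique [IsAffineHom p] [LocallyOfFinitePresentation p] (hQ : Q = I.support.compl) (hs : s ≫ p = Q.ι)
    {Z : Scheme.{u}} {h : Z ⟶ P} (hd : Dense I h) {m m' : Z ⟶ Y} (hm : IsExt p s h m) (hm' : IsExt p s h m') :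
    m = m' := by
  refine Scheme.hom_ext_of_forall m m' fun z => ?_
  obtain ⟨C, V, E, φ, j, hj, hz, -, hjh, hφ⟩ := hd z ⊤ trivial
  haveI := hj
  obtain ⟨X, hX⟩ := affine_ext p s I hQ hs E
  have h1 := (hX C φ hφ).2 (j ≫ m) (j ≫ m') (hjh ▸ hm.comp j) (hjh ▸ hm'.comp j)
  refine ⟨j.opensRange, hz, ?_⟩
  rw [← cancel_epi j.isoOpensRange.hom, ← Category.assoc, ← Category.assoc, Scheme.Hom.isoOpensRange_hom_ι]
  exact h1

/-- Extensions glue. -/
theorem exists_ext_of_cover [IsAffineHom p] [LocallyOfFinitePresentation p] (hQ : Q = I.support.compl)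
    (hs : s ≫ p = Q.ι) {Z : Scheme.{u}} {h : Z ⟶ P} (hd : Dense I h) {ι : Type u} (W : ι → Scheme.{u})
    (χ : ∀ i, W i ⟶ Z) [∀ i, IsOpenImmersion (χ i)] (hcov : ∀ z : Z, ∃ i, z ∈ Set.range (χ i))
    (hloc : ∀ i, ∃ m, IsExt p s (χ i ≫ h) m) : ∃ m, IsExt p s h m := by
  choose m hm using hloc
  let 𝒰 : Z.OpenCover := Scheme.Cover.mkOfCovers ι W χ (fun z => by
    obtain ⟨i, c, hc⟩ := hcov z
    exact ⟨i, c, hc⟩) fun i => inferInstance
  have hf : ∀ i j, pullback.fst (χ i) (χ j) ≫ m i = pullback.snd (χ i) (χ j) ≫ m j := fun i j => by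
    refine IsExt.unique hQ hs (h := pullback.fst (χ i) (χ j) ≫ χ i ≫ h) ?_ ((hm i).comp _) ?_
    · exact (hd.comp (χ i)).comp _
    · have := (hm j).comp (pullback.snd (χ i) (χ j))
      rwa [← Category.assoc, ← pullback.condition, Category.assoc] at this
  refine ⟨Scheme.Cover.glueMorphisms 𝒰 m hf, ?_, fun Z' j j' e => ?_⟩
  · refine Scheme.Cover.hom_ext 𝒰 _ _ fun i => ?_
    rw [Scheme.Cover.ι_glueMorphisms_assoc]
    exact (hm i).1
  · refine Scheme.Cover.hom_ext (𝒰.pullback₁ j) _ _ fun i => ?_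
    show pullback.fst j (χ i) ≫ j ≫ _ = pullback.fst j (χ i) ≫ j' ≫ s
    rw [pullback.condition_assoc]
    rw [show pullback.snd j (χ i) ≫ χ i ≫ Scheme.Cover.glueMorphisms 𝒰 m hf = pullback.snd j (χ i) ≫ m i from
      congrArg (pullback.snd j (χ i) ≫ ·) (Scheme.Cover.ι_glueMorphisms 𝒰 m hf i), (hm i).2 _ (pullback.snd j (χ i)) (pullback.fst j (χ i) ≫ j')
      (by rw [← Category.assoc, ← pullback.condition, Category.assoc, Category.assoc, e]), Category.assoc]

end Groth.Agent.CartierExtLib
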