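import Groth.Agent.ZeroLocusLib.Main

/-!
# Representing a condition on algebras by an ideal, and on affine schemes by a closed subscheme
-/

set_option autoImplicit false
set_option maxHeartbeats 1000000

universe u

open CategoryTheory CategoryTheory.Limits AlgebraicGeometry TopologicalSpace Opposite TensorProduct
open Groth.Agent.ZeroLocusLib

noncomputable section

namespace Groth.Agent.CartierExtLib

/-- Descent of representing ideals along a finite flat covering family. -/
theorem exists_descended {A : Type u} [CommRing A] (P : ∀ (R' : Type u) [CommRing R'] [Algebra A R'], Prop)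
    {ι : Type u} [Finite ι] (R : ι → Type u) [∀ p, CommRing (R p)] [∀ p, Algebra A (R p)]
    (hflat : ∀ p, Module.Flat A (R p))
    (hcov : ∀ x : PrimeSpectrum A, ∃ p, x ∈ Set.range (PrimeSpectrum.comap (algebraMap A (R p))))
    (hup : ∀ (p : ι) (R' : Type u) [CommRing R'] [Algebra A R'], P R' → P (R p ⊗[A] R'))
    (hdown : ∀ (R' : Type u) [CommRing R'] [Algebra A R'], (∀ p, P (R p ⊗[A] R')) → P R')
    (J : ∀ p, Ideal (R p))
    (hJ : ∀ (p : ι) (R' : Type u) [CommRing R'] [Algebra A R'] [Algebra (R p) R'] [IsScalarTower A (R p) R'],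
      P R' ↔ J p ≤ RingHom.ker (algebraMap (R p) R')) :
    ∃ I : Ideal A, ∀ (R' : Type u) [CommRing R'] [Algebra A R'], P R' ↔ I ≤ RingHom.ker (algebraMap A R') := by
  classical
  haveI := Fintype.ofFinite ι
  let I : Ideal A := ⨅ p, (J p).comap (algebraMap A (R p))
  have hJI : ∀ p, J p ≤ I.map (algebraMap A (R p)) := by
    intro p j hj
    let Q : ι → Type u := fun k => R k ⧸ J k
    let ρ : (A ⧸ I) →ₗ[A] Π k, Q k :=
      Submodule.liftQ I (LinearMap.pi fun k => Algebra.linearMap A (Q k)) fun a ha => by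
        rw [LinearMap.mem_ker]
        funext k
        show algebraMap A (R k ⧸ J k) a = 0
        rw [IsScalarTower.algebraMap_apply A (R k) (R k ⧸ J k)]
        exact Ideal.Quotient.eq_zero_iff_mem.2 (Ideal.mem_iInf.1 ha k)
    have hρ : Function.Injective ρ := LinearMap.ker_eq_bot.1 (Submodule.ker_liftQ_eq_bot _ _ _ fun a ha => by
      rw [LinearMap.mem_ker] at ha
      refine Ideal.mem_iInf.2 fun k => ?_
      have h1 : algebraMap A (R k ⧸ J k) a = 0 := congrFun ha k
      rw [IsScalarTower.algebraMap_apply A (R k) (R k ⧸ J k)] at h1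
      exact Ideal.mem_comap.2 ((Ideal.Quotient.eq_zero_iff_mem (I := J k)).1 h1))
    have hz : ∀ k, j ⊗ₜ[A] (1 : Q k) = 0 := by
      intro k
      let T := Q k ⊗[A] R p
      have hk : P T := (hJ k T).2 fun a ha => by
        show (algebraMap (R k) (Q k) a) ⊗ₜ[A] (1 : R p) = 0
        rw [show algebraMap (R k) (Q k) a = 0 from Ideal.Quotient.eq_zero_iff_mem.2 ha]
        exact TensorProduct.zero_tmul _ _
      letI : Algebra (R p) T := Algebra.TensorProduct.rightAlgebra
      haveI : IsScalarTower A (R p) T := IsScalarTower.of_algebraMap_eq (R := A) (S := R p) (A := T) fun a =>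
        ((Algebra.TensorProduct.includeRight : R p →ₐ[A] T).commutes a).symm
      have h1 : (1 : Q k) ⊗ₜ[A] j = 0 := (hJ p T).1 hk hj
      rw [← (TensorProduct.comm A (Q k) (R p)).map_eq_zero_iff] at h1
      exact h1
    haveI := hflat p
    have h2 : j ⊗ₜ[A] (Ideal.Quotient.mk I 1) = 0 := by
      refine Module.Flat.lTensor_preserves_injective_linearMap (M := R p) ρ hρ ?_
      rw [map_zero]
      refine (TensorProduct.piRight A A (R p) Q).injective ?_
      rw [map_zero]
      funext k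
      show TensorProduct.piRight A A (R p) Q (j ⊗ₜ[A] ρ (Ideal.Quotient.mk I 1)) k = 0
      rw [TensorProduct.piRight_apply, TensorProduct.piRightHom_tmul]
      refine Eq.trans (congrArg (fun v => j ⊗ₜ[A] v) ?_) (hz k)
      show algebraMap A (Q k) 1 = 1
      exact map_one _
    have h4 := congrArg (Algebra.TensorProduct.quotIdealMapEquivTensorQuot (R p) I).symm h2
    rw [map_zero, Algebra.TensorProduct.quotIdealMapEquivTensorQuot_symm_tmul, one_smul] at h4
    exact Ideal.Quotient.eq_zero_iff_mem.1 h4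
  have hIJ : ∀ p, I.map (algebraMap A (R p)) ≤ J p := fun p => Ideal.map_le_iff_le_comap.2 (iInf_le _ p)
  refine ⟨I, fun R' _ _ => ?_⟩
  have hR'' : ∀ p, P (R p ⊗[A] R') ↔ ∀ a ∈ I, algebraMap A (R p ⊗[A] R') a = 0 := by
    intro p
    rw [hJ p (R p ⊗[A] R'), le_antisymm (hJI p) (hIJ p), Ideal.map_le_iff_le_comap]
    refine forall₂_congr fun a _ => ?_
    rw [Ideal.mem_comap, RingHom.mem_ker, ← IsScalarTower.algebraMap_apply]
  refine ⟨fun h a ha => eq_zero_of_forall_tensor R hflat hcov (algebraMap A R' a) fun p => ?_,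
    fun h => hdown R' fun p => (hR'' p).2 fun a ha => ?_⟩
  · have h3 := (hR'' p).1 (hup p R' h) a ha
    rw [← (Algebra.TensorProduct.includeRight : R' →ₐ[A] R p ⊗[A] R').commutes a] at h3
    exact h3
  · rw [← (Algebra.TensorProduct.includeRight : R' →ₐ[A] R p ⊗[A] R').commutes a,
      show algebraMap A R' a = 0 from h ha, map_zero]

/-- A local condition on affine schemes over `S` given by ideals over affine opens is a closed subscheme. -/
theorem exists_closed_affine {S : Scheme.{u}} (P : ∀ (T : Scheme.{u}), (T ⟶ S) → Prop)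
    (hideal : ∀ U : S.affineOpens, ∃ I : Ideal Γ(S, U.1), ∀ (R' : Type u) [CommRing R'] [Algebra Γ(S, U.1) R'],
      P (Spec (CommRingCat.of R')) (tBase U.2 R') ↔ I ≤ RingHom.ker (algebraMap Γ(S, U.1) R'))
    (hloc : ∀ (T : Scheme.{u}) (g : T ⟶ S), IsAffine T → (P T g ↔ ∀ (U : S.affineOpens) (W : T.Opens)
      (hW : IsAffineOpen W), W ≤ g ⁻¹ᵁ U.1 → P (Spec Γ(T, W)) (hW.fromSpec ≫ g))) :
    ∃ (Z : Scheme.{u}) (i : Z ⟶ S), IsClosedImmersion i ∧
      ∀ (T : Scheme.{u}) (g : T ⟶ S), IsAffine T → ((∃ h : T ⟶ Z, h ≫ i = g) ↔ P T g) := by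
  classical
  choose I hI using hideal
  have hle : ∀ (U V : S.affineOpens) (h : V.1 ≤ U.1),
      (I U).map (S.presheaf.map (homOfLE h).op).hom = I V := by
    intro U V h
    letI alg : Algebra Γ(S, U.1) Γ(S, V.1) := (S.presheaf.map (homOfLE h).op).hom.toAlgebra
    have key : ∀ (R' : Type u) [CommRing R'] [Algebra Γ(S, V.1) R'] [Algebra Γ(S, U.1) R']
        [IsScalarTower Γ(S, U.1) Γ(S, V.1) R'],
        I V ≤ RingHom.ker (algebraMap Γ(S, V.1) R') ↔ I U ≤ RingHom.ker (algebraMap Γ(S, U.1) R') := by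
      intro R' _ _ _ _
      rw [← hI V R', ← hI U R']
      suffices e : tBase V.2 R' = tBase U.2 R' by rw [e]
      show Spec.map (CommRingCat.ofHom (algebraMap Γ(S, V.1) R')) ≫ V.2.fromSpec =
        Spec.map (CommRingCat.ofHom (algebraMap Γ(S, U.1) R')) ≫ U.2.fromSpec
      rw [IsScalarTower.algebraMap_eq Γ(S, U.1) Γ(S, V.1) R', CommRingCat.ofHom_comp, Spec.map_comp, Category.assoc]
      congr 1
      exact (U.2.map_fromSpec V.2 (homOfLE h).op).symm
    refine le_antisymm ?_ ?_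
    · rw [Ideal.map_le_iff_le_comap]
      have h1 := (key (Γ(S, V.1) ⧸ I V)).1 (by rw [Ideal.Quotient.algebraMap_eq, Ideal.mk_ker])
      intro a ha
      have h2 := h1 ha
      rw [RingHom.mem_ker, IsScalarTower.algebraMap_apply Γ(S, U.1) Γ(S, V.1) (Γ(S, V.1) ⧸ I V)] at h2
      exact Ideal.mem_comap.2 ((Ideal.Quotient.eq_zero_iff_mem (I := I V)).1 h2)
    · have h1 := (key (Γ(S, V.1) ⧸ (I U).map (algebraMap Γ(S, U.1) Γ(S, V.1)))).2 fun a ha => by
        rw [RingHom.mem_ker, IsScalarTower.algebraMap_apply Γ(S, U.1) Γ(S, V.1)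
          (Γ(S, V.1) ⧸ (I U).map (algebraMap Γ(S, U.1) Γ(S, V.1)))]
        exact Ideal.Quotient.eq_zero_iff_mem.2 (Ideal.mem_map_of_mem _ ha)
      rw [Ideal.Quotient.algebraMap_eq, Ideal.mk_ker] at h1
      exact h1
  let 𝓘 : S.IdealSheafData :=
    { ideal := I
      map_ideal_basicOpen := fun U f => hle U (S.affineBasicOpen f) (S.basicOpen_le f) }
  have hker : ∀ {T : Scheme.{u}} (g : T ⟶ S),
      (𝓘 ≤ g.ker ↔ ∀ U : S.affineOpens, I U ≤ RingHom.ker (g.app U.1).hom) := fun g =>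
    Scheme.IdealSheafData.le_ofIdeals_iff
  refine ⟨𝓘.subscheme, 𝓘.subschemeι, inferInstance, fun T g hT => ?_⟩
  have hlift : (∃ h : T ⟶ 𝓘.subscheme, h ≫ 𝓘.subschemeι = g) ↔ 𝓘 ≤ g.ker := by
    constructor
    · rintro ⟨h, rfl⟩
      exact le_trans (le_of_eq 𝓘.ker_subschemeι.symm) (Scheme.Hom.le_ker_comp h 𝓘.subschemeι)
    · intro h
      exact ⟨IsClosedImmersion.lift 𝓘.subschemeι g (by rwa [𝓘.ker_subschemeι]),
        IsClosedImmersion.lift_fac _ _ _⟩
  rw [hlift, hker]
  rw [hloc T g hT]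
  have hi : ∀ (U : S.affineOpens) (W : T.Opens) (hW : IsAffineOpen W) (hWU : W ≤ g ⁻¹ᵁ U.1),
      P (Spec Γ(T, W)) (hW.fromSpec ≫ g) ↔ I U ≤ RingHom.ker (g.appLE U.1 W hWU).hom := by
    intro U W hW hWU
    letI : Algebra Γ(S, U.1) Γ(T, W) := (g.appLE U.1 W hWU).hom.toAlgebra
    rw [show hW.fromSpec ≫ g = tBase U.2 Γ(T, W) from (U.2.SpecMap_appLE_fromSpec g hW hWU).symm]
    exact hI U Γ(T, W)
  constructor
  · intro h U W hW hWU
    refine (hi U W hW hWU).2 fun a ha => ?_
    have := h U ha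
    rw [RingHom.mem_ker] at this ⊢
    show (T.presheaf.map (homOfLE hWU).op).hom ((g.app U.1).hom a) = 0
    rw [this]
    exact map_zero _
  · intro h U a ha
    rw [RingHom.mem_ker]
    refine T.sheaf.eq_of_locally_eq' (fun W : {W : T.Opens // IsAffineOpen W ∧ W ≤ g ⁻¹ᵁ U.1} => W.1) _
      (fun W => homOfLE W.2.2) (fun x hx => ?_) _ _ fun W => ?_
    · obtain ⟨_, ⟨W, hW, rfl⟩, hxW, hWU⟩ := T.isBasis_affineOpens.exists_subset_of_mem_open hx (g ⁻¹ᵁ U.1).2
      exact Opens.mem_iSup.2 ⟨⟨W, hW, hWU⟩, hxW⟩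
    · exact ((hi U W.1 W.2.1 W.2.2).1 (h U W.1 W.2.1 W.2.2) ha).trans
        (map_zero (T.presheaf.map (homOfLE W.2.2).op).hom).symm

end Groth.Agent.CartierExtLib
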