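import Groth.Agent.CartierExtLib.Etale
import Groth.Agent.CartierExtLib.Rep

/-!
# The closed subscheme over which a section extends across a flat divisor
-/

set_option autoImplicit false
set_option maxHeartbeats 1000000

universe u

open CategoryTheory CategoryTheory.Limits AlgebraicGeometry TopologicalSpace Opposite TensorProduct
open Groth.Agent.ZeroLocusLib

noncomputable section

namespace Groth.Agent.CartierExtLib

variable {Y P S : Scheme.{u}} {q : P ⟶ S} (I : P.IdealSheafData)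

theorem dense_piece {R : CommRingCat.{u}} {t : Spec R ⟶ S} {ι : Type*} (Pc : ι → Piece q t)
    (E : ∀ i, Eqn I (Pc i).V) (hnzd : ∀ i, (Pc i).φ (E i).f ∈ nonZeroDivisors (Pc i).C)
    (hcov : ∀ z : ↥(pullback q t), ∃ i, z ∈ Set.range (Pc i).χ) : Dense I (pullback.fst q t) := by
  intro z O hz
  obtain ⟨i, c, hc⟩ := hcov z
  obtain ⟨_, ⟨e, rfl⟩, hce, he⟩ := PrimeSpectrum.isTopologicalBasis_basic_opens.exists_subset_of_mem_open
    (show c ∈ (Pc i).χ ⁻¹' (O : Set ↥(pullback q t)) by show (Pc i).χ c ∈ O; rw [hc]; exact hz)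
    (O.2.preimage (Scheme.Hom.continuous _))
  let Ce := Localization.Away e
  let j := Spec.map (CommRingCat.ofHom (algebraMap (Pc i).C Ce))
  haveI : IsOpenImmersion j := IsOpenImmersion.of_isLocalization e
  have hrange : Set.range j = (PrimeSpectrum.basicOpen e : Set (PrimeSpectrum (Pc i).C)) :=
    PrimeSpectrum.localization_away_comap_range Ce e
  obtain ⟨d, hd⟩ : c ∈ Set.range j := hrange.ge hce
  refine ⟨CommRingCat.of Ce, (Pc i).V, E i, (algebraMap (Pc i).C Ce).comp (Pc i).φ, j ≫ (Pc i).χ,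
    inferInstance, ⟨d, by rw [Scheme.Hom.comp_apply, hd, hc]⟩, ?_, ?_, ?_⟩
  · rintro _ ⟨x, rfl⟩
    exact he (hrange.le ⟨x, rfl⟩)
  · rw [Category.assoc, (Pc i).hfst, CommRingCat.ofHom_comp, Spec.map_comp, Category.assoc]
  · exact IsLocalization.map_nonZeroDivisors_le (Submonoid.powers e) Ce ⟨_, hnzd i, rfl⟩

theorem dense_of_cover {I} {Z : Scheme.{u}} {h : Z ⟶ P} {ι : Type*} (W : ι → Scheme.{u}) (χ : ∀ i, W i ⟶ Z)
    [∀ i, IsOpenImmersion (χ i)] (hcov : ∀ z : Z, ∃ i, z ∈ Set.range (χ i)) (hd : ∀ i, Dense I (χ i ≫ h)) :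
    Dense I h := by
  intro z O hz
  obtain ⟨i, w, rfl⟩ := hcov z
  obtain ⟨C, V, E, φ, j, hj, ⟨c, hc⟩, hjO, hjh, hφ⟩ := hd i w (χ i ⁻¹ᵁ O) hz
  haveI := hj
  refine ⟨C, V, E, φ, j ≫ χ i, inferInstance, ⟨c, by rw [Scheme.Hom.comp_apply, hc]⟩, ?_,
    by rw [Category.assoc, hjh], hφ⟩
  rintro _ ⟨x, rfl⟩
  exact hjO ⟨x, rfl⟩

theorem baseChange_nzd {R : CommRingCat.{u}} {t : Spec R ⟶ S} (Pc : Piece q t) (E : Eqn I Pc.V)
    (h : Pc.φ E.f ∈ nonZeroDivisors Pc.C) [Module.Flat R (Pc.C ⧸ (Ideal.span {Pc.φ E.f} : Ideal Pc.C))]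
    (R' : Type u) [CommRing R'] [Algebra R R'] :
    (Pc.baseChange R').φ E.f ∈ nonZeroDivisors (R' ⊗[R] Pc.C) :=
  regular_tensor R' h

variable [IsProper q] [LocallyOfFinitePresentation q] [Flat (I.subschemeι ≫ q)]
variable (p : Y ⟶ P) [IsAffineHom p] [LocallyOfFinitePresentation p] {Q : P.Opens} (s : (Q : Scheme.{u}) ⟶ Y)

/-- The section extends over the base change along `g`. -/
def ExtP (q : P ⟶ S) (T : Scheme.{u}) (g : T ⟶ S) : Prop := ∃ m, IsExt p s (pullback.fst q g) m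

variable {I} {p s}

omit [IsProper q] [LocallyOfFinitePresentation q] [IsAffineHom p] [LocallyOfFinitePresentation p] in
theorem ExtP.mono {T T' : Scheme.{u}} {g : T ⟶ S} {g' : T' ⟶ S} (a : T' ⟶ T) (e : a ≫ g = g')
    (h : ExtP p s q T g) : ExtP p s q T' g' := by
  obtain ⟨m, hm⟩ := h
  refine ⟨bc q a e ≫ m, ?_⟩
  have h1 := hm.comp (bc q a e)
  rwa [show bc q a e ≫ pullback.fst q g = pullback.fst q g' from pullback.lift_fst _ _ _] at h1

/-- Charts with a regular equation over an affine open of the base. -/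
abbrev EqnIx (q : P ⟶ S) (I : P.IdealSheafData) (U : S.Opens) : Type u :=
  Σ' (V : P.Opens) (_ : Eqn I V), V ≤ q ⁻¹ᵁ U

omit [IsProper q] [LocallyOfFinitePresentation q] in
theorem cover_eqnChart (hI : FGA.IsEffCartier I) {U : S.Opens} (hU : IsAffineOpen U)
    (z : ↥(pullback q hU.fromSpec)) :
    ∃ V : EqnIx q I U, z ∈ Set.range (chart q hU V.2.1.hV V.2.2).χ := by
  have hzU : pullback.fst q hU.fromSpec z ∈ q ⁻¹ᵁ U := by
    show (pullback.fst q hU.fromSpec ≫ q) z ∈ U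
    rw [pullback.condition]
    exact hU.range_fromSpec.le (Set.mem_range_self (pullback.snd q hU.fromSpec z))
  obtain ⟨V, ⟨E⟩, hzV, hVU⟩ := exists_eqn I hI _ _ hzU
  refine ⟨⟨V, E, hVU⟩, ?_⟩
  obtain ⟨c, hc⟩ : pullback.fst q hU.fromSpec z ∈ Set.range E.hV.fromSpec := E.hV.range_fromSpec.ge hzV
  refine ⟨c, (pullback.fst q hU.fromSpec).isEmbedding.injective ?_⟩
  rw [← Scheme.Hom.comp_apply, (chart q hU E.hV hVU).hfst]
  show E.hV.fromSpec (Spec.map (CommRingCat.ofHom (RingHom.id _)) c) = _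
  rw [CommRingCat.ofHom_id, Spec.map_id]
  exact hc

omit [IsProper q] [LocallyOfFinitePresentation q] in
theorem dense_tBase (hI : FGA.IsEffCartier I) {U : S.Opens} (hU : IsAffineOpen U) (R' : Type u) [CommRing R']
    [Algebra Γ(S, U) R'] : Dense I (pullback.fst q (tBase hU R')) :=
  dense_piece I (fun V : EqnIx q I U => (chart q hU V.2.1.hV V.2.2).baseChange R') (fun V => V.2.1)
    (fun V => by
      haveI : Module.Flat Γ(S, U) ((chart q hU V.2.1.hV V.2.2).C ⧸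
          (Ideal.span {(chart q hU V.2.1.hV V.2.2).φ V.2.1.f} : Ideal (chart q hU V.2.1.hV V.2.2).C)) :=
        flat_quot q I hU V.2.1 V.2.2
      exact baseChange_nzd I (chart q hU V.2.1.hV V.2.2) V.2.1 V.2.1.hf R')
    (Piece.cover_baseChange R' _ (cover_eqnChart hI hU))

omit [IsProper q] [LocallyOfFinitePresentation q] in
theorem piece_nzd (hI : FGA.IsEffCartier I) [Flat q] {R : CommRingCat.{u}} {t : Spec R ⟶ S} [Flat t]
    (Pc : Piece q t) (E : Eqn I Pc.V) : Pc.φ E.f ∈ nonZeroDivisors Pc.C := by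
  haveI : Flat (Pc.χ ≫ pullback.fst q t) := inferInstance
  haveI hflat : Flat (Spec.map (CommRingCat.ofHom Pc.φ) ≫ E.hV.fromSpec) := by
    have h := ‹Flat (Pc.χ ≫ pullback.fst q t)›
    rw [Pc.hfst] at h
    exact h
  have h1 := Scheme.Hom.flat_appLE (Spec.map (CommRingCat.ofHom Pc.φ) ≫ E.hV.fromSpec) E.hV
    (isAffineOpen_top _) (spec_le E.hV _)
  have h2 : Pc.φ.Flat := by
    have h3 := RingHom.Flat.respectsIso.1 _ ((Scheme.ΓSpecIso (CommRingCat.of Pc.C)).commRingCatIsoToRingEquiv) h1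
    have h4 := congrArg CommRingCat.Hom.hom (appLE_fromSpec E.hV Pc.φ)
    rw [CommRingCat.hom_comp, CommRingCat.hom_ofHom] at h4
    exact h4 ▸ h3
  letI := Pc.φ.toAlgebra
  haveI : Module.Flat Γ(P, Pc.V) Pc.C := h2
  have hreg : IsSMulRegular Γ(P, Pc.V) E.f :=
    fun a b hab => sub_eq_zero.1 ((mem_nonZeroDivisors_iff.1 E.hf).1 _ (by rw [mul_sub]; exact sub_eq_zero.2 hab))
  have h5 : IsSMulRegular Pc.C E.f := hreg.of_flat_of_isBaseChange (IsBaseChange.linearMap Γ(P, Pc.V) Pc.C)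
  have key : ∀ z : Pc.C, Pc.φ E.f * z = 0 → z = 0 := fun z hz => h5 (show E.f • z = E.f • (0 : Pc.C) by
    rw [smul_zero, Algebra.smul_def]; exact hz)
  exact mem_nonZeroDivisors_iff.2 ⟨key, fun z hz => key z (by rw [mul_comm]; exact hz)⟩

omit [IsProper q] [LocallyOfFinitePresentation q] in
/-- The criterion given by a cover by pieces. -/
theorem ext_iff_pieces (hQ : Q = I.support.compl) (hs : s ≫ p = Q.ι) {R : CommRingCat.{u}}
    {t : Spec R ⟶ S} {ι : Type u} (Pc : ι → Piece q t) (E : ∀ i, Eqn I (Pc i).V)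
    (hnzd : ∀ i, (Pc i).φ (E i).f ∈ nonZeroDivisors (Pc i).C)
    (hflat : ∀ i, Module.Flat R ((Pc i).C ⧸ (Ideal.span {(Pc i).φ (E i).f} : Ideal (Pc i).C)))
    (hcov : ∀ z : ↥(pullback q t), ∃ i, z ∈ Set.range (Pc i).χ) :
    ∃ X : ∀ i, Set (ℕ × Γ(P, (Pc i).V)), ∀ (R' : Type u) [CommRing R'] [Algebra R R'],
      ExtP p s q (Spec (CommRingCat.of R')) (Spec.map (CommRingCat.ofHom (algebraMap R R')) ≫ t) ↔
        ∀ i, ∀ x ∈ X i, (1 : R') ⊗ₜ[R] (Ideal.Quotient.mk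
          (Ideal.span {(Pc i).φ (E i).f ^ x.1} : Ideal (Pc i).C) ((Pc i).φ x.2)) = 0 := by
  choose X hX using fun i => affine_ext p s I hQ hs (E i)
  refine ⟨X, fun R' _ _ => ?_⟩
  have hnzd' : ∀ i, ((Pc i).baseChange R').φ (E i).f ∈ nonZeroDivisors (R' ⊗[R] (Pc i).C) := fun i =>
    haveI := hflat i
    baseChange_nzd I (Pc i) (E i) (hnzd i) R'
  haveI : ∀ i, IsOpenImmersion ((Pc i).baseChange R').χ := fun i => isOpenImmersion_pieceχ R' (Pc i)
  have hd := dense_piece I (fun i => (Pc i).baseChange R') E hnzd' (Piece.cover_baseChange R' Pc hcov)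
  have hone : ∀ i, (∀ x ∈ X i, (1 : R') ⊗ₜ[R] (Ideal.Quotient.mk
      (Ideal.span {(Pc i).φ (E i).f ^ x.1} : Ideal (Pc i).C) ((Pc i).φ x.2)) = 0) ↔
      ∃ m, IsExt p s (((Pc i).baseChange R').χ ≫
        pullback.fst q (Spec.map (CommRingCat.ofHom (algebraMap R R')) ≫ t)) m := fun i => by
    rw [((Pc i).baseChange R').hfst]
    refine Iff.trans ?_ (hX i _ ((Pc i).baseChange R').φ (hnzd' i)).1.symm
    refine forall₂_congr fun x _ => (tmul_quot_eq_zero_iff R' _ _).trans ?_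
    show _ ↔ ((1 : R') ⊗ₜ[R] (Pc i).φ (E i).f) ^ x.1 ∣ (1 : R') ⊗ₜ[R] (Pc i).φ x.2
    rw [Algebra.TensorProduct.tmul_pow, one_pow]
  constructor
  · rintro ⟨m, hm⟩ i
    exact (hone i).2 ⟨_, hm.comp ((Pc i).baseChange R').χ⟩
  · intro h
    exact exists_ext_of_cover hQ hs hd (fun i => Spec (CommRingCat.of ((Pc i).baseChange R').C))
      (fun i => ((Pc i).baseChange R').χ) (Piece.cover_baseChange R' Pc hcov) fun i => (hone i).1 (h i)

theorem quot_flat {R : CommRingCat.{u}} {t : Spec R ⟶ S} (Pc : Piece q t) (E : Eqn I Pc.V)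
    (h : Module.Projective R (Pc.C ⧸ (Ideal.span {Pc.φ E.f} : Ideal Pc.C))) :
    Module.Flat R (Pc.C ⧸ (Ideal.span {Pc.φ E.f} : Ideal Pc.C)) :=
  haveI := h
  Module.Flat.of_projective

theorem exists_content_quot {R : CommRingCat.{u}} {t : Spec R ⟶ S} (Pc : Piece q t) (E : Eqn I Pc.V)
    (h : Module.Projective R (Pc.C ⧸ (Ideal.span {Pc.φ E.f} : Ideal Pc.C)))
    (hnzd : Pc.φ E.f ∈ nonZeroDivisors Pc.C) (n : ℕ) (β : Γ(P, Pc.V)) :
    ∃ J : Ideal R, ∀ (R' : Type u) [CommRing R'] [Algebra R R'],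
      (1 : R') ⊗ₜ[R] (Ideal.Quotient.mk (Ideal.span {Pc.φ E.f ^ n} : Ideal Pc.C) (Pc.φ β)) = 0 ↔
        J ≤ RingHom.ker (algebraMap R R') := by
  haveI := h
  haveI := projective_quot_pow (R := R) hnzd n
  obtain ⟨J, hJ⟩ := exists_content (R := R)
    fun _ : PUnit.{1} => Ideal.Quotient.mk (Ideal.span {Pc.φ E.f ^ n} : Ideal Pc.C) (Pc.φ β)
  exact ⟨J, fun R' _ _ => ⟨fun h => (hJ R').1 fun _ => h, fun h => (hJ R').2 h ⟨⟩⟩⟩

theorem exists_ideal_ext [Flat q] (hI : FGA.IsEffCartier I) (hQ : Q = I.support.compl) (hs : s ≫ p = Q.ι)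
    {U : S.Opens} (hU : IsAffineOpen U) :
    ∃ J : Ideal Γ(S, U), ∀ (R' : Type u) [CommRing R'] [Algebra Γ(S, U) R'],
      ExtP p s q (Spec (CommRingCat.of R')) (tBase hU R') ↔ J ≤ RingHom.ker (algebraMap Γ(S, U) R') := by
  classical
  let A := Γ(S, U)
  choose R _ _ het hpt ι Pc hproj hcov using fun x : PrimeSpectrum A => exists_pieces (q := q) I hI hU x.asIdeal
  have hflatR : ∀ x, Module.Flat A (R x) := fun x => haveI := het x; inferInstance
  have hopen : ∀ x, IsOpen (Set.range (PrimeSpectrum.comap (algebraMap A (R x)))) := fun x => by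
    haveI := het x
    haveI := hflatR x
    exact (PrimeSpectrum.isOpenMap_comap_of_hasGoingDown_of_finitePresentation (R := A) (S := R x)).isOpen_range
  obtain ⟨σ, hσ⟩ := isCompact_univ.elim_finite_subcover _ hopen fun x _ => Set.mem_iUnion.2
    ⟨x, by obtain ⟨P, hP, hPp⟩ := hpt x; exact ⟨⟨P, hP⟩, PrimeSpectrum.ext hPp⟩⟩
  have hcovR : ∀ z : PrimeSpectrum A, ∃ x : σ, z ∈ Set.range (PrimeSpectrum.comap (algebraMap A (R x))) :=
    fun z => by
      obtain ⟨x, hx, hz⟩ := Set.mem_iUnion₂.1 (hσ (Set.mem_univ z))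
      exact ⟨⟨x, hx⟩, hz⟩
  choose E hE using hproj
  have hJ : ∀ x, ∃ J : Ideal (R x), ∀ (R' : Type u) [CommRing R'] [Algebra A R'] [Algebra (R x) R']
      [IsScalarTower A (R x) R'],
      ExtP p s q (Spec (CommRingCat.of R')) (tBase hU R') ↔ J ≤ RingHom.ker (algebraMap (R x) R') := by
    intro x
    haveI : Flat (tBase hU (R x)) := by
      haveI : Flat (Spec.map (CommRingCat.ofHom (algebraMap A (R x)))) :=
        HasRingHomProperty.Spec_iff.2 (RingHom.flat_algebraMap_iff.2 (hflatR x))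
      infer_instance
    have hnzd := fun i => piece_nzd hI (Pc x i) (E x i)
    obtain ⟨X, hX⟩ := ext_iff_pieces (p := p) (s := s) hQ hs (Pc x) (E x) hnzd
      (fun i => quot_flat (Pc x i) (E x i) (hE x i)) (hcov x)
    choose Ji hJi using fun i : (Σ i : ι x, X i) =>
      exists_content_quot (Pc x i.1) (E x i.1) (hE x i.1) (hnzd i.1) i.2.1.1 i.2.1.2
    refine ⟨⨆ i, Ji i, fun R' _ _ _ _ => ?_⟩
    rw [iSup_le_iff, ← tBase_comp hU (IsScalarTower.toAlgHom A (R x) R')]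
    refine (hX R').trans ⟨fun h i => ?_, fun h i y hy => ?_⟩
    · exact (hJi i R').1 (h i.1 i.2.1 i.2.2)
    · exact (hJi ⟨i, y, hy⟩ R').2 (h ⟨i, y, hy⟩)
  choose J hJ using hJ
  obtain ⟨X, hX⟩ := ext_iff_pieces (p := p) (s := s) hQ hs
    (fun V : EqnIx q I U => chart q hU V.2.1.hV V.2.2) (fun V => V.2.1) (fun V => V.2.1.hf)
    (fun V => flat_quot q I hU V.2.1 V.2.2) (cover_eqnChart hI hU)
  refine exists_descended (fun R' _ _ => ExtP p s q (Spec (CommRingCat.of R')) (tBase hU R'))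
    (fun x : σ => R x) (fun x => hflatR x) hcovR (fun x R' _ _ h => h.mono _ (tBase_comp hU
      (Algebra.TensorProduct.includeRight : R' →ₐ[A] R x ⊗[A] R'))) ?_ (fun x : σ => J x)
    fun x R' _ _ _ _ => hJ x R'
  intro R' _ _ h
  refine (hX R').2 fun V y hy => eq_zero_of_forall_tensor (fun x : σ => R x) (fun x => hflatR x) hcovR _ fun x =>
    tensor_zero_descends _ ((hX (R x ⊗[A] R')).1 (h x) V y hy)

theorem exists_closed_ext [Flat q] (hI : FGA.IsEffCartier I) (hQ : Q = I.support.compl) (hs : s ≫ p = Q.ι) :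
    ∃ (Z : Scheme.{u}) (i : Z ⟶ S), IsClosedImmersion i ∧
      ∀ (T : Scheme.{u}) (g : T ⟶ S), IsAffine T → ((∃ h : T ⟶ Z, h ≫ i = g) ↔ ExtP p s q T g) := by
  refine exists_closed_affine (fun T g => ExtP p s q T g) (fun U => exists_ideal_ext hI hQ hs U.2) fun T g _ => ?_
  refine ⟨fun h U W hW _ => h.mono _ rfl, fun h => ?_⟩
  let κ := Σ U : S.affineOpens, {W : T.Opens // IsAffineOpen W ∧ W ≤ g ⁻¹ᵁ U.1}
  let χ : ∀ i : κ, pullback q (i.2.2.1.fromSpec ≫ g) ⟶ pullback q g := fun i => bc q i.2.2.1.fromSpec rfl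
  haveI : ∀ i, IsOpenImmersion (χ i) := fun i => MorphismProperty.of_isPullback (P := @IsOpenImmersion)
    (isPullback_lift q i.2.2.1.fromSpec rfl).flip inferInstance
  have hcov : ∀ z : ↥(pullback q g), ∃ i, z ∈ Set.range (χ i) := by
    intro z
    obtain ⟨_, ⟨U, hU, rfl⟩, hzU, -⟩ := S.isBasis_affineOpens.exists_subset_of_mem_open
      (Set.mem_univ (g (pullback.snd q g z))) isOpen_univ
    obtain ⟨_, ⟨W, hW, rfl⟩, hzW, hWU⟩ := T.isBasis_affineOpens.exists_subset_of_mem_open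
      (show pullback.snd q g z ∈ (g ⁻¹ᵁ U : Set T) from hzU) (g ⁻¹ᵁ U).2
    obtain ⟨w, hw⟩ : pullback.snd q g z ∈ Set.range hW.fromSpec := hW.range_fromSpec.ge hzW
    obtain ⟨z', hz', -⟩ := Scheme.exists_preimage_of_isPullback
      (isPullback_lift q hW.fromSpec (rfl : _ = hW.fromSpec ≫ g)) z w hw.symm
    exact ⟨⟨⟨U, hU⟩, W, hW, hWU⟩, z', hz'⟩
  have hfst : ∀ i, χ i ≫ pullback.fst q g = pullback.fst q (i.2.2.1.fromSpec ≫ g) := fun i => pullback.lift_fst _ _ _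
  refine exists_ext_of_cover hQ hs (dense_of_cover _ χ hcov fun i => ?_) _ χ hcov fun i => ?_
  · rw [hfst]
    letI : Algebra Γ(S, i.1.1) Γ(T, i.2.1) := (g.appLE i.1.1 i.2.1 i.2.2.2).hom.toAlgebra
    rw [show i.2.2.1.fromSpec ≫ g = tBase i.1.2 Γ(T, i.2.1) from
      (i.1.2.SpecMap_appLE_fromSpec g i.2.2.1 i.2.2.2).symm]
    exact dense_tBase hI i.1.2 _
  · rw [hfst]
    exact h i.1 i.2.1 i.2.2.1 i.2.2.2

omit [IsProper q] [LocallyOfFinitePresentation q] [Flat (I.subschemeι ≫ q)] [IsAffineHom p] [LocallyOfFinitePresentation p] in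
theorem extP_iff {T : Scheme.{u}} (g : T ⟶ S) :
    ExtP p s q T g ↔ ∃ f : pullback q g ⟶ Y, f ≫ p = pullback.fst q g ∧
      ((pullback.fst q g) ⁻¹ᵁ Q).ι ≫ f = ((pullback.fst q g) ∣_ Q) ≫ s := by
  refine exists_congr fun f => and_congr_right fun _ => ⟨fun h => h _ _ _ (morphismRestrict_ι _ Q).symm,
    fun h Z' j j' e => ?_⟩
  have sq := isPullback_morphismRestrict (pullback.fst q g) Q
  let k := sq.lift j' j e.symm
  rw [show j = k ≫ _ from (sq.lift_snd _ _ _).symm, show j' = k ≫ _ from (sq.lift_fst _ _ _).symm,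
    Category.assoc, Category.assoc, h]

end Groth.Agent.CartierExtLib
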